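import Cfsg.Agent.SporB.FiTwoTwoO.Lines
import Cfsg.Agent.SporB.FiTwoTwo.Realize

/-! The subgroup of index 14080 of the presented Fischer group is `PΩ₇(3)`. -/

set_option autoImplicit false
set_option maxRecDepth 100000

namespace Cfsg.Agent.SporB.FischerO

open Cfsg.Agent.CosetCert Cfsg.Agent.CosetEnum

/-- The subgroup of index 14080. -/
abbrev oSub : Subgroup Cfsg.Spor.Fi22 :=
  (Subgroup.closure ({Cfsg.Spor.Fi22.b, Cfsg.Spor.Fi22.c, Cfsg.Spor.Fi22.d, Cfsg.Spor.Fi22.e,
    Cfsg.Spor.Fi22.f, Cfsg.Spor.Fi22.g, Cfsg.Spor.Fi22.h, Cfsg.Spor.Fi22.i} :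
      Set (FreeGroup Cfsg.Spor.Fi22.Gen))).map (PresentedGroup.mk _)

theorem oSub_eq :
    (Subgroup.closure {r | r ∈ FiTwentyTwoO.gensList}).map (PresentedGroup.mk _) = oSub := by
  have hset : {r | r ∈ FiTwentyTwoO.gensList} =
      ({Cfsg.Spor.Fi22.b, Cfsg.Spor.Fi22.c, Cfsg.Spor.Fi22.d, Cfsg.Spor.Fi22.e,
        Cfsg.Spor.Fi22.f, Cfsg.Spor.Fi22.g, Cfsg.Spor.Fi22.h, Cfsg.Spor.Fi22.i} :
          Set (FreeGroup Cfsg.Spor.Fi22.Gen)) := by
    ext r
    simp [FiTwentyTwoO.gensList]
  rw [hset]

open FischerU in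
theorem oSub_closure :
    oSub = Subgroup.closure (Set.range fun j : Fin 8 => val [(j : ℕ) + 2]) := by
  rw [← oSub_eq, MonoidHom.map_closure]
  apply le_antisymm <;> rw [Subgroup.closure_le]
  · rintro _ ⟨r, hr, rfl⟩
    refine Subgroup.subset_closure ?_
    have hb : ∀ r ∈ FiTwentyTwoO.gensList, ∃ j : Fin 8,
        r = pval (FiTwentyTwoU.data.act FreeGroup.of) [(j : ℕ) + 2] := by decide +kernel
    obtain ⟨j, hj⟩ := hb r hr
    exact ⟨j, by rw [hj]; rfl⟩
  · rintro _ ⟨j, rfl⟩
    refine Subgroup.subset_closure ⟨pval (FiTwentyTwoU.data.act FreeGroup.of) [(j : ℕ) + 2], ?_, rfl⟩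
    revert j
    show ∀ j : Fin 8, _ ∈ FiTwentyTwoO.gensList
    decide +kernel

/-- Line under a point; `351` off the orbit. -/
noncomputable def piN (i : ℕ) : ℕ := piT.get 16 i

theorem sec_spec : ∀ k : Fin 351, secT.get 16 k < 3510 ∧ piN (secT.get 16 k) = k := by decide +kernel

/-- A section of `piN`. -/
noncomputable def sec (k : Fin 351) : Fin 3510 := ⟨secT.get 16 k, (sec_spec k).1⟩

theorem compat_table (j : Fin 8) (x : Fin 3510) (h : piN x < 351) :
    piN (FiTwentyTwoU.data.run [(j : ℕ) + 2] x) = lineN (j + 1) (piN x) := by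
  have hb : ∀ j : Fin 8, allB (fun x => Nat.ble 3510 x || (Nat.ble 351 (piN x) ||
      Nat.beq (piN (FiTwentyTwoU.data.run [(j : ℕ) + 2] x)) (lineN (j + 1) (piN x)))) 12 0 = true := by
    decide +kernel
  have h1 := allB_spec_zero (hb j) (by norm_num : 3510 ≤ 2 ^ 12) x.2
  simp only [Bool.or_eq_true] at h1
  rcases h1 with h1 | h1 | h1
  · exact absurd (Nat.le_of_ble_eq_true h1) (not_le.2 x.2)
  · exact absurd (Nat.le_of_ble_eq_true h1) (not_le.2 h)
  · exact Nat.eq_of_beq_eq_true h1

/-- `Q` is the permutation of the lines induced by `p`. -/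
def Induces (p : Equiv.Perm (Fin 3510)) (Q : Equiv.Perm (Fin 351)) : Prop :=
  ∀ (x : Fin 3510) (h : piN x < 351), piN (p x) = (Q ⟨piN x, h⟩ : ℕ)

theorem Induces.mul {p q : Equiv.Perm (Fin 3510)} {P Q : Equiv.Perm (Fin 351)} (hp : Induces p P)
    (hq : Induces q Q) : Induces (p * q) (P * Q) := by
  intro x h
  have h1 := hq x h
  have h2 : piN (q x) < 351 := h1 ▸ (Q ⟨piN x, h⟩).2
  rw [Equiv.Perm.mul_apply, hp (q x) h2, Equiv.Perm.mul_apply]
  congr 2
  exact Fin.ext h1

theorem Induces.one : Induces 1 1 := fun _ _ => rfl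

theorem Induces.unique {p : Equiv.Perm (Fin 3510)} {P Q : Equiv.Perm (Fin 351)} (hp : Induces p P)
    (hq : Induces p Q) : P = Q := by
  refine Equiv.ext fun k => Fin.ext ?_
  have hk : piN (sec k) < 351 := (sec_spec k).2.symm ▸ k.2
  have hkk : (⟨piN (sec k), hk⟩ : Fin 351) = k := Fin.ext (sec_spec k).2
  have h := (hp (sec k) hk).symm.trans (hq (sec k) hk)
  rwa [hkk] at h

/-- The image of the eight letters. -/
noncomputable def letterPerm (l : ℕ) : Equiv.Perm (Fin 351) :=
  if h : l - 1 < 8 then lineHom (refl8 ⟨l - 1, h⟩) else 1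

theorem orbit_ok : ∀ r : Fin 351, (r : ℕ) ≠ 0 → Level.ok level0 351 lineN r = true := by
  intro r _
  exact chain_valid.2.1 r r.2

/-- **The isomorphism.** -/
theorem oSub_iso : Nonempty (oSub ≃* Cfsg.POmega (ZMod 3) (Cfsg.quadFormOdd 3 (ZMod 3))) := by
  classical
  obtain ⟨hsimp, hcard⟩ := CosetEnum.FiTwentyTwo.main
  obtain ⟨φ, hinj, hval, -, -⟩ := FischerU.fi_data
  have hfinG : Finite Cfsg.Spor.Fi22 := Nat.finite_of_card_ne_zero (by rw [hcard]; norm_num)
  have hidx : oSub.index = 14080 := oSub_eq ▸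
    (index_eq FiTwentyTwoO.valid FiTwentyTwoO.word_letters FiTwentyTwoO.base_letters).trans
      (by decide +kernel)
  have hcardK : Nat.card oSub = 4585351680 := by
    have h := oSub.card_mul_index
    rw [hidx, hcard] at h
    omega
  have hok : ∀ j : Fin 8, FischerU.okWord [(j : ℕ) + 2] = true := by decide +kernel
  have hgood : ∀ j : Fin 8, Induces (φ (FischerU.val [(j : ℕ) + 2])) (lineHom (refl8 j)) :=
    fun j x h => by rw [hval _ (hok j), compat_table j x h, lineHom_refl]
  have hall : ∀ s : oSub, ∃ Q, Q ∈ lineHom.range ∧ Induces (φ s) Q := by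
    rintro ⟨x, hx⟩
    have hxm : φ x ∈ oSub.map φ := ⟨x, hx, rfl⟩
    rw [oSub_closure, MonoidHom.map_closure, ← Subgroup.mem_toSubmonoid,
      Subgroup.closure_toSubmonoid_of_finite] at hxm
    show ∃ Q, Q ∈ lineHom.range ∧ Induces (φ x) Q
    clear hx
    generalize φ x = p at hxm
    induction hxm using Submonoid.closure_induction with
    | one => exact ⟨1, one_mem _, Induces.one⟩
    | mul a b _ _ ha hb =>
      obtain ⟨P, hP', hP⟩ := ha
      obtain ⟨Q, hQ', hQ⟩ := hb
      exact ⟨P * Q, mul_mem hP' hQ', hP.mul hQ⟩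
    | mem p hp =>
      obtain ⟨_, ⟨j, rfl⟩, rfl⟩ := hp
      exact ⟨_, ⟨_, rfl⟩, hgood j⟩
  choose f hfr hf using hall
  let ρ : oSub →* Equiv.Perm (Fin 351) :=
    { toFun := f
      map_one' := (hf 1).unique (by simpa using Induces.one)
      map_mul' := fun s t => (hf (s * t)).unique (by simpa using (hf s).mul (hf t)) }
  have hgK : ∀ j : Fin 8, FischerU.val [(j : ℕ) + 2] ∈ oSub := fun j =>
    oSub_closure ▸ Subgroup.subset_closure ⟨j, rfl⟩
  have hρ : ∀ j, ρ ⟨_, hgK j⟩ = lineHom (refl8 j) := fun j => (hf ⟨_, hgK j⟩).unique (hgood j)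
  -- the subgroup is perfect
  have hperf : commutator oSub = ⊤ := by
    let q : oSub →* Abelianization oSub := Abelianization.of
    let u : Fin 8 → Abelianization oSub := fun j => q ⟨_, hgK j⟩
    have hone : ∀ (w : List (Fin 8)), FischerU.fixAll (w.map fun j : Fin 8 => (j : ℕ) + 2) = true →
        FischerU.okWord (w.map fun j : Fin 8 => (j : ℕ) + 2) = true → (w.map u).prod = 1 := by
      have hrev : ∀ w : List (Fin 8), ((w.map fun j => (⟨_, hgK j⟩ : oSub)).reverse.prod : oSub).1
          = FischerU.val (w.map fun j : Fin 8 => (j : ℕ) + 2) := by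
        intro w
        induction w with
        | nil => simp [FischerU.val, pval]
        | cons j w ih =>
          rw [List.map_cons, List.map_cons, List.reverse_cons, List.prod_append, List.prod_singleton,
            Subgroup.coe_mul, ih]
          exact (FischerU.val_append [(j : ℕ) + 2] _).symm
      intro w hw hw'
      have e := FischerU.val_eq_one hinj hval _ hw' hw
      have e2 : ((w.map fun j => (⟨_, hgK j⟩ : oSub)).reverse.prod : oSub) = 1 :=
        Subtype.ext ((hrev w).trans e)
      have e3 := congrArg q e2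
      have hcomm : ∀ a b : Abelianization oSub, Commute a b := fun a b => mul_comm a b
      rw [map_list_prod, map_one, List.map_reverse, List.map_map] at e3
      rw [← e3]
      refine (List.Perm.prod_eq' (List.reverse_perm _).symm ?_)
      exact List.pairwise_of_forall fun a b => hcomm a b
    have hsq : ∀ j, u j * u j = 1 := by
      intro j
      have h : FischerU.fixAll ([(j : ℕ) + 2, (j : ℕ) + 2]) = true ∧
          FischerU.okWord ([(j : ℕ) + 2, (j : ℕ) + 2]) = true := by
        revert j; decide +kernel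
      simpa using hone [j, j] h.1 h.2
    have hbraid : ∀ p ∈ ([(0, 1), (1, 2), (2, 3), (3, 4), (4, 5), (2, 6), (6, 7)] : List (Fin 8 × Fin 8)),
        u p.1 = u p.2 := by
      intro p hp
      have hchk : ∀ p ∈ ([(0, 1), (1, 2), (2, 3), (3, 4), (4, 5), (2, 6), (6, 7)] : List (Fin 8 × Fin 8)),
          FischerU.fixAll (([p.1, p.2, p.1, p.2, p.1, p.2] : List (Fin 8)).map fun j : Fin 8 => (j : ℕ) + 2)
            = true ∧
          FischerU.okWord (([p.1, p.2, p.1, p.2, p.1, p.2] : List (Fin 8)).map fun j : Fin 8 => (j : ℕ) + 2)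
            = true := by
        decide +kernel
      have e := hone _ (hchk p hp).1 (hchk p hp).2
      have hx := hsq p.1
      have hy := hsq p.2
      simp only [List.map_cons, List.map_nil, List.prod_cons, List.prod_nil, mul_one] at e
      generalize u p.1 = x at hx e ⊢
      generalize u p.2 = y at hy e ⊢
      have hc : y * x = x * y := mul_comm y x
      have e' : (x * y) * ((x * y) * (x * y)) = 1 := by simpa [mul_assoc] using e
      have h2 : (x * y) * (x * y) = 1 := by
        calc (x * y) * (x * y) = x * (y * x) * y := by group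
          _ = x * (x * y) * y := by rw [hc]
          _ = (x * x) * (y * y) := by group
          _ = 1 := by rw [hx, hy, one_mul]
      rw [h2, mul_one] at e'
      calc x = x * (y * y) := by rw [hy, mul_one]
        _ = y := by rw [← mul_assoc, e', one_mul]
    have hall : ∀ j, u j = u 0 := by
      have q1 : u 1 = u 0 := (hbraid (0, 1) (by simp)).symm
      have q2 : u 2 = u 0 := (hbraid (1, 2) (by simp)).symm.trans q1
      have q3 : u 3 = u 0 := (hbraid (2, 3) (by simp)).symm.trans q2
      have q4 : u 4 = u 0 := (hbraid (3, 4) (by simp)).symm.trans q3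
      have q5 : u 5 = u 0 := (hbraid (4, 5) (by simp)).symm.trans q4
      have q6 : u 6 = u 0 := (hbraid (2, 6) (by simp)).symm.trans q2
      have q7 : u 7 = u 0 := (hbraid (6, 7) (by simp)).symm.trans q6
      intro j; fin_cases j <;> first | rfl | assumption
    have hu0 : u 0 = 1 := by
      have h := hone ((List.replicate 9 ([0, 1, 2, 3, 4, 5, 6] : List (Fin 8))).flatten)
        (by decide +kernel) (by decide +kernel)
      rw [List.prod_eq_pow_card _ (u 0) (fun y hy => by
        obtain ⟨j, -, rfl⟩ := List.mem_map.1 hy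
        exact hall j)] at h
      have hlen : (((List.replicate 9 ([0, 1, 2, 3, 4, 5, 6] : List (Fin 8))).flatten).map u).length
          = 2 * 31 + 1 := by simp
      rw [hlen, pow_succ, pow_mul, pow_two, hsq, one_pow, one_mul] at h
      exact h
    rw [eq_top_iff]
    rintro ⟨x, hx⟩ -
    have hmap : oSub ≤ (commutator oSub).map oSub.subtype := by
      conv_lhs => rw [oSub_closure]
      rw [Subgroup.closure_le]
      rintro _ ⟨j, rfl⟩
      exact ⟨⟨_, hgK j⟩, (QuotientGroup.eq_one_iff _).1 ((hall j).trans hu0), rfl⟩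
    obtain ⟨y, hy, hyx⟩ := hmap hx
    obtain rfl : y = ⟨x, hx⟩ := Subtype.ext hyx
    exact hy
  -- the image lies in the image of the commutator subgroup
  set S := (Cfsg.Omega (ZMod 3) (Cfsg.quadFormOdd 3 (ZMod 3))).map lineHom with hS
  have hle : ρ.range ≤ S := by
    have h : ρ.range ≤ lineHom.range := by rintro _ ⟨s, rfl⟩; exact hfr s
    rw [MonoidHom.range_eq_map, ← hperf, commutator_def, Subgroup.map_commutator, hS,
      Cfsg.Omega, commutator_def, Subgroup.map_commutator, ← MonoidHom.range_eq_map,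
      ← MonoidHom.range_eq_map]
    exact Subgroup.commutator_mono h h
  -- lower bound
  have hlet : ∀ l ∈ [1, 2, 3, 4, 5, 6, 7, 8], letterPerm l ∈ ρ.range := by
    intro l hl
    have hl8 : l - 1 < 8 := by
      simp only [List.mem_cons, List.not_mem_nil, or_false] at hl; omega
    rw [letterPerm, dif_pos hl8]
    exact ⟨_, hρ ⟨l - 1, hl8⟩⟩
  have hσ : ∀ l ∈ [1, 2, 3, 4, 5, 6, 7, 8], ∀ i, (letterPerm l i : ℕ) = lineN l i := by
    intro l hl i
    have hl8 : l - 1 < 8 ∧ l - 1 + 1 = l := by
      simp only [List.mem_cons, List.not_mem_nil, or_false] at hl; omega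
    rw [letterPerm, dif_pos hl8.1, lineHom_refl]
    exact congrArg (fun t => lineN t i) hl8.2
  have hlow : 4585351680 ≤ Nat.card ρ.range :=
    (show 4585351680 = chainProd levels by decide +kernel).le.trans
      (chainProd_le_card lineN _ letterPerm hσ ρ.range hlet levels chain_valid)
  -- the centre of the commutator subgroup acts trivially
  have horbit : ∀ r : ℕ, r < 351 → ∀ k : Fin 351, (k : ℕ) = level0.ord.get 32 r →
      ∃ p ∈ ρ.range, p 0 = k := by
    intro r
    induction r using Nat.strong_induction_on with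
    | _ r ih =>
      intro hr k hk
      by_cases h0 : r = 0
      · subst h0
        have e0 : level0.ord.get 32 0 = 0 := by decide +kernel
        exact ⟨1, one_mem _, Fin.ext (by rw [hk, e0]; rfl)⟩
      have h := orbit_ok ⟨r, hr⟩ h0
      have hb : Nat.beq r 0 = false := by
        cases h' : Nat.beq r 0
        · rfl
        · exact absurd (Nat.eq_of_beq_eq_true h') h0
      simp only [Level.ok, Bool.and_eq_true, hb, cond_false] at h
      obtain ⟨-, -, hp, hj, hrun⟩ := h
      set p := Nat.div (level0.par.get 32 r) 256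
      set j := Nat.mod (level0.par.get 32 r) 256
      have hp' : p < r := Nat.le_of_ble_eq_true hp
      have hpo : level0.ord.get 32 p < 351 := by
        have h' := chain_valid.2.1 p (hp'.trans hr)
        simp only [Level.ok, Bool.and_eq_true] at h'
        exact Nat.le_of_ble_eq_true h'.1
      obtain ⟨τ, hτ, hτ0⟩ := ih p hp' (hp'.trans hr) ⟨_, hpo⟩ rfl
      have hj' : j < level0.gens.length := Nat.le_of_ble_eq_true hj
      have hgm : level0.gens.getD j [] ∈ level0.gens := by
        rw [List.getD_eq_getElem _ _ hj']; exact List.getElem_mem hj'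
      have hul := (chain_valid.1 _ hgm).1
      refine ⟨pval letterPerm (level0.gens.getD j []) * τ, mul_mem ?_ hτ, ?_⟩
      · generalize level0.gens.getD j [] = w at hul
        induction w with
        | nil => exact one_mem _
        | cons l ls ihw =>
          exact mul_mem (ihw fun m hm => hul m (List.mem_cons_of_mem _ hm))
            (hlet l (hul l List.mem_cons_self))
      · rw [Equiv.Perm.mul_apply, hτ0]
        apply Fin.ext
        rw [runWord_pval lineN _ letterPerm hσ _ hul, hk]
        exact Nat.eq_of_beq_eq_true hrun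
  have hfix1 : ∀ w ∈ level1.gens, runWord lineN w 0 = 0 := by decide +kernel
  have hfix2 : ∀ k : Fin 351, (∀ w ∈ level1.gens, runWord lineN w k = k) → k = 0 := by decide +kernel
  have hl1 : ∀ w ∈ level1.gens, ∀ l ∈ w, l ∈ [1, 2, 3, 4, 5, 6, 7, 8] := by decide +kernel
  have hsurj : ∀ k : Fin 351, ∃ p ∈ ρ.range, p 0 = k := by
    intro k
    have h : ∀ k : Fin 351, level0.rank.get 32 k < 351 ∧
        level0.ord.get 32 (level0.rank.get 32 k) = k := by decide +kernel
    exact horbit _ (h k).1 k (h k).2.symm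
  have hcent : ∀ z ∈ Subgroup.center (Cfsg.Omega (ZMod 3) (Cfsg.quadFormOdd 3 (ZMod 3))),
      lineHom z.1 = 1 := by
    intro z hz
    have hcomm : ∀ p ∈ ρ.range, lineHom z.1 * p = p * lineHom z.1 := by
      intro p hp
      obtain ⟨g, hg, rfl⟩ := hle hp
      rw [← map_mul, ← map_mul]
      exact congrArg lineHom (congrArg Subtype.val (Subgroup.mem_center_iff.1 hz ⟨g, hg⟩)).symm
    have h0 : lineHom z.1 0 = 0 := by
      apply hfix2
      intro w hw
      have hmem : pval letterPerm w ∈ ρ.range := by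
        have := hl1 w hw
        clear hw
        induction w with
        | nil => exact one_mem _
        | cons l ls ihw =>
          exact mul_mem (ihw fun m hm => this m (List.mem_cons_of_mem _ hm))
            (hlet l (this l List.mem_cons_self))
      have hw0 : pval letterPerm w 0 = 0 := Fin.ext
        ((runWord_pval lineN _ letterPerm hσ _ (hl1 w hw) _).trans (hfix1 w hw))
      have h := congrArg (fun t : Equiv.Perm (Fin 351) => (t 0 : ℕ)) (hcomm _ hmem)
      simp only [Equiv.Perm.mul_apply, hw0] at h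
      rw [runWord_pval lineN _ letterPerm hσ _ (hl1 w hw)] at h
      exact h.symm
    refine Equiv.ext fun k => ?_
    obtain ⟨p, hp, rfl⟩ := hsurj k
    rw [← Equiv.Perm.mul_apply, hcomm p hp, Equiv.Perm.mul_apply, h0, Equiv.Perm.one_apply]
  let ψ : Cfsg.POmega (ZMod 3) (Cfsg.quadFormOdd 3 (ZMod 3)) →* S :=
    QuotientGroup.lift _ ((lineHom.subgroupMap _)) fun z hz => Subtype.ext (hcent z hz)
  have hψ : Function.Surjective ψ := by
    intro y
    obtain ⟨g, hg⟩ := MonoidHom.subgroupMap_surjective lineHom _ y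
    exact ⟨QuotientGroup.mk g, hg⟩
  have hfinΩ : Finite (Cfsg.POmega (ZMod 3) (Cfsg.quadFormOdd 3 (ZMod 3))) :=
    Nat.finite_of_card_ne_zero (by rw [card_pOmega]; norm_num)
  have hSle : Nat.card S ≤ 4585351680 := card_pOmega ▸ Nat.card_le_card_of_surjective ψ hψ
  have heq : ρ.range = S := Subgroup.eq_of_le_of_card_ge hle (hSle.trans hlow)
  have hρcard : Nat.card ρ.range = 4585351680 := le_antisymm (heq ▸ hSle) hlow
  have hb1 : Function.Bijective ρ.rangeRestrict :=
    (Nat.bijective_iff_surjective_and_card _).2 ⟨ρ.rangeRestrict_surjective, by rw [hcardK, hρcard]⟩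
  have hb2 : Function.Bijective ψ :=
    (Nat.bijective_iff_surjective_and_card _).2 ⟨hψ, by rw [card_pOmega, ← heq, hρcard]⟩
  exact ⟨(MulEquiv.ofBijective ρ.rangeRestrict hb1).trans
    ((MulEquiv.subgroupCongr heq).trans (MulEquiv.ofBijective ψ hb2).symm)⟩

end Cfsg.Agent.SporB.FischerO
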