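import Cfsg.Agent.SporB.FiTwoTwoO.Data
import Cfsg.Prelude.Def_Classical
import Cfsg.Agent.S0292

/-! The isometry group of the seven-dimensional orthogonal space over the field of three elements on
351 lines, with eight reflections. -/

set_option autoImplicit false
set_option maxRecDepth 100000

namespace Cfsg.Agent.SporB.FischerO

open Cfsg.Agent.CosetCert Cfsg.Agent.CosetEnum Matrix

/-- Coordinates. -/
abbrev Crd : Type := Unit ⊕ (Fin 3 ⊕ Fin 3)

/-- Vectors. -/
abbrev Vec : Type := Crd → ZMod 3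

/-- The quadratic form. -/
abbrev qf : Vec → ZMod 3 := Cfsg.quadFormOdd 3 (ZMod 3)

/-- The isometry group. -/
abbrev Iso : Subgroup (Matrix.GeneralLinearGroup Crd (ZMod 3)) :=
  Cfsg.isometryGroup (ZMod 3) (Cfsg.quadFormOdd 3 (ZMod 3))

/-- Position of a coordinate. -/
def pos : Crd → ℕ
  | .inl _ => 0
  | .inr (.inl i) => i.val + 1
  | .inr (.inr i) => i.val + 4

/-- Residue of a number. -/
def res (n : ℕ) : ZMod 3 := (⟨n % 3, Nat.mod_lt _ (by norm_num)⟩ : Fin 3)

/-- Digit of a residue. -/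
def digit (x : ZMod 3) : ℕ := @Fin.val 3 x

/-- Vector of a number. -/
def vecN (n : ℕ) : Vec := fun i => res (n / 3 ^ pos i)

/-- Number of a vector. -/
def enc (v : Vec) : ℕ :=
  digit (v (.inl ())) + 3 * digit (v (.inr (.inl 0))) + 9 * digit (v (.inr (.inl 1))) +
    27 * digit (v (.inr (.inl 2))) + 81 * digit (v (.inr (.inr 0))) +
    243 * digit (v (.inr (.inr 1))) + 729 * digit (v (.inr (.inr 2)))

theorem digit_lt (x : ZMod 3) : digit x < 3 := @Fin.isLt 3 x

theorem res_digit (x : ZMod 3) : res (digit x) = x := by revert x; decide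

theorem res_mod (n : ℕ) : res n = res (n % 3) := by
  unfold res
  exact Fin.ext (Nat.mod_mod _ _).symm

theorem enc_lt (v : Vec) : enc v < 2187 := by
  have := digit_lt (v (.inl ())); have := digit_lt (v (.inr (.inl 0)))
  have := digit_lt (v (.inr (.inl 1))); have := digit_lt (v (.inr (.inl 2)))
  have := digit_lt (v (.inr (.inr 0))); have := digit_lt (v (.inr (.inr 1)))
  have := digit_lt (v (.inr (.inr 2)))
  unfold enc; omega

theorem vecN_enc (v : Vec) : vecN (enc v) = v := by
  funext i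
  have key : enc v / 3 ^ pos i % 3 = digit (v i) := by
    have h0 := digit_lt (v (.inl ())); have h1 := digit_lt (v (.inr (.inl 0)))
    have h2 := digit_lt (v (.inr (.inl 1))); have h3 := digit_lt (v (.inr (.inl 2)))
    have h4 := digit_lt (v (.inr (.inr 0))); have h5 := digit_lt (v (.inr (.inr 1)))
    have h6 := digit_lt (v (.inr (.inr 2)))
    unfold enc
    generalize e0 : digit (v (.inl ())) = c0 at h0 ⊢
    generalize e1 : digit (v (.inr (.inl 0))) = c1 at h1 ⊢
    generalize e2 : digit (v (.inr (.inl 1))) = c2 at h2 ⊢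
    generalize e3 : digit (v (.inr (.inl 2))) = c3 at h3 ⊢
    generalize e4 : digit (v (.inr (.inr 0))) = c4 at h4 ⊢
    generalize e5 : digit (v (.inr (.inr 1))) = c5 at h5 ⊢
    generalize e6 : digit (v (.inr (.inr 2))) = c6 at h6 ⊢
    rcases i with ⟨⟩ | i | i
    · show _ = digit (v (.inl ())); rw [e0]; norm_num [pos]; omega
    · fin_cases i
      · show _ = digit (v (.inr (.inl 0))); rw [e1]; norm_num [pos]; omega
      · show _ = digit (v (.inr (.inl 1))); rw [e2]; norm_num [pos]; omega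
      · show _ = digit (v (.inr (.inl 2))); rw [e3]; norm_num [pos]; omega
    · fin_cases i
      · show _ = digit (v (.inr (.inr 0))); rw [e4]; norm_num [pos]; omega
      · show _ = digit (v (.inr (.inr 1))); rw [e5]; norm_num [pos]; omega
      · show _ = digit (v (.inr (.inr 2))); rw [e6]; norm_num [pos]; omega
  rw [vecN, res_mod, key, res_digit]

/-- Line of a vector. -/
noncomputable def idx (v : Vec) : Fin 351 :=
  ⟨idxT.get 16 (enc v) % 351, Nat.mod_lt _ (Nat.succ_pos _)⟩

/-- Representative of a line. -/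
noncomputable def pt (k : Fin 351) : Vec := vecN (ptT.get 16 k.val)

theorem res_cast (n : ℕ) : res n = (n : ZMod 3) := by
  apply Fin.ext
  show n % 3 = ((n : ZMod 3) : ZMod 3).val
  rw [ZMod.val_natCast]

theorem digit_res (n : ℕ) : digit (res n) = n % 3 := rfl

/-- A digit of a number. -/
def dig (n i : ℕ) : ℕ := Nat.mod (Nat.div n (3 ^ i)) 3

theorem dig_eq (n i : ℕ) : dig n i = n / 3 ^ i % 3 := rfl

theorem vecN_apply (n : ℕ) (i : Crd) : vecN n i = (dig n (pos i) : ZMod 3) := by
  rw [vecN, res_mod, res_cast]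
  rfl

theorem enc_vecN {n : ℕ} (hn : n < 2187) : enc (vecN n) = n := by
  simp [enc, vecN, digit_res, pos]
  omega

/-- The quadratic form on numbers. -/
def qN (n : ℕ) : ℕ :=
  (dig n 0 * dig n 0 + (dig n 1 * dig n 4 + dig n 2 * dig n 5 + dig n 3 * dig n 6)) % 3

theorem qf_vecN (n : ℕ) : qf (vecN n) = (qN n : ZMod 3) := by
  simp [qf, Cfsg.quadFormOdd, vecN_apply, qN, Fin.sum_univ_three, pos, pow_two]

/-- Twice a vector, on numbers. -/
def twiceN (n : ℕ) : ℕ :=
  2 * dig n 0 % 3 + 3 * (2 * dig n 1 % 3) + 9 * (2 * dig n 2 % 3) + 27 * (2 * dig n 3 % 3) +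
    81 * (2 * dig n 4 % 3) + 243 * (2 * dig n 5 % 3) + 729 * (2 * dig n 6 % 3)

theorem twiceN_eq (n : ℕ) : (2 : ZMod 3) • vecN n = vecN (twiceN n) := by
  have hd : ∀ i, i < 7 → dig (twiceN n) i = 2 * dig n i % 3 := by
    intro i hi
    unfold twiceN
    set d := fun i => 2 * dig n i % 3 with hdd
    have hb : ∀ i, d i < 3 := fun i => Nat.mod_lt _ (by norm_num)
    show dig (d 0 + 3 * d 1 + 9 * d 2 + 27 * d 3 + 81 * d 4 + 243 * d 5 + 729 * d 6) i = d i
    clear_value d
    have := hb 0; have := hb 1; have := hb 2; have := hb 3; have := hb 4; have := hb 5; have := hb 6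
    rw [dig_eq]
    interval_cases i <;> omega
  funext i
  have hp : pos i < 7 := by
    rcases i with ⟨⟩ | i | i <;> simp [pos] <;> omega
  rw [Pi.smul_apply, vecN_apply, vecN_apply, hd _ hp, ZMod.natCast_mod, smul_eq_mul]
  push_cast
  rfl

theorem pt_lt : ∀ k : Fin 351, ptT.get 16 k < 2187 ∧ qN (ptT.get 16 k) = 2 ∧
    idxT.get 16 (ptT.get 16 k) = k ∧ idxT.get 16 (twiceN (ptT.get 16 k)) = k ∧
    twiceN (ptT.get 16 k) < 2187 := by
  decide +kernel

theorem qf_pt (k : Fin 351) : qf (pt k) = 2 := by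
  rw [pt, qf_vecN, (pt_lt k).2.1]
  rfl

theorem pt_spec (v : Vec) (hv : qf v = 2) : ∃ s : ZMod 3, s ≠ 0 ∧ v = s • pt (idx v) := by
  have hb : allB (fun n => Nat.ble 2187 n || (!Nat.beq (qN n) 2 ||
      (Nat.blt (idxT.get 16 n) 351 && (Nat.beq n (ptT.get 16 (idxT.get 16 n)) ||
        Nat.beq n (twiceN (ptT.get 16 (idxT.get 16 n))))))) 12 0 = true := by
    decide +kernel
  have h := allB_spec_zero hb (by norm_num : 2187 ≤ 2 ^ 12) (enc_lt v)
  rw [Bool.or_eq_true] at h
  rcases h with h | h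
  · exact absurd (Nat.le_of_ble_eq_true h) (not_le.2 (enc_lt v))
  rw [Bool.or_eq_true] at h
  rcases h with h | h
  · exfalso
    have hq := qf_vecN (enc v)
    rw [vecN_enc, hv] at hq
    have hlt : qN (enc v) < 3 := Nat.mod_lt _ (by norm_num)
    revert h hq
    generalize qN (enc v) = q at hlt ⊢
    interval_cases q <;> decide
  rw [Bool.and_eq_true, Bool.or_eq_true] at h
  obtain ⟨hlt, h⟩ := h
  have hi : (idx v : ℕ) = idxT.get 16 (enc v) := Nat.mod_eq_of_lt (Nat.le_of_ble_eq_true hlt)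
  rcases h with h | h
  · refine ⟨1, one_ne_zero, ?_⟩
    rw [one_smul, pt, hi, ← Nat.eq_of_beq_eq_true h, vecN_enc]
  · refine ⟨2, by decide, ?_⟩
    rw [pt, hi, twiceN_eq, ← Nat.eq_of_beq_eq_true h, vecN_enc]

theorem idx_smul_pt (s : ZMod 3) (k : Fin 351) (hs : s ≠ 0) : idx (s • pt k) = k := by
  obtain ⟨h1, -, h2, h3, h4⟩ := pt_lt k
  have : s = 1 ∨ s = 2 := by revert s; decide
  apply Fin.ext
  rcases this with rfl | rfl
  · rw [one_smul]
    show idxT.get 16 (enc (vecN _)) % 351 = _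
    rw [enc_vecN h1, h2, Nat.mod_eq_of_lt k.2]
  · rw [pt, twiceN_eq]
    show idxT.get 16 (enc (vecN _)) % 351 = _
    rw [enc_vecN h4, h3, Nat.mod_eq_of_lt k.2]

theorem idx_pt (k : Fin 351) : idx (pt k) = k := by
  simpa using idx_smul_pt 1 k one_ne_zero

theorem idx_smul {s : ZMod 3} (hs : s ≠ 0) {v : Vec} (hv : qf v = 2) : idx (s • v) = idx v := by
  obtain ⟨t, ht, e⟩ := pt_spec v hv
  conv_lhs => rw [e]
  rw [smul_smul, idx_smul_pt _ _ (mul_ne_zero hs ht)]

theorem qf_act (g : Iso) (v : Vec) :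
    qf (((g : Matrix.GeneralLinearGroup Crd (ZMod 3)) : Matrix Crd Crd (ZMod 3)).mulVec v) = qf v :=
  g.2 v v

/-- The image of a line. -/
noncomputable def moveFun (g : Iso) (k : Fin 351) : Fin 351 :=
  idx (((g : Matrix.GeneralLinearGroup Crd (ZMod 3)) : Matrix Crd Crd (ZMod 3)).mulVec (pt k))

theorem moveFun_one (k : Fin 351) : moveFun 1 k = k := by
  rw [moveFun, Subgroup.coe_one, Units.val_one, Matrix.one_mulVec, idx_pt]

theorem moveFun_mul (g h : Iso) (k : Fin 351) : moveFun (g * h) k = moveFun g (moveFun h k) := by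
  have hv := (qf_act h (pt k)).trans (qf_pt k)
  obtain ⟨s, hs, e⟩ := pt_spec _ hv
  unfold moveFun
  rw [Subgroup.coe_mul, Units.val_mul, ← Matrix.mulVec_mulVec]
  conv_lhs => rw [e]
  rw [Matrix.mulVec_smul, idx_smul hs ((qf_act g _).trans (qf_pt _))]

/-- The action on the lines. -/
noncomputable def lineHom : Iso →* Equiv.Perm (Fin 351) where
  toFun g :=
    { toFun := moveFun g
      invFun := moveFun g⁻¹
      left_inv := fun k => by rw [← moveFun_mul, inv_mul_cancel, moveFun_one]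
      right_inv := fun k => by rw [← moveFun_mul, mul_inv_cancel, moveFun_one] }
  map_one' := Equiv.ext moveFun_one
  map_mul' g h := Equiv.ext fun k => moveFun_mul g h k

/-- Entries of a reflection. -/
def rowsMat (r : List (List ℕ)) : Matrix Crd Crd (ZMod 3) :=
  Matrix.of fun i j => res ((r.getD (pos i) []).getD (pos j) 0)

theorem rowsMat_sq : ∀ j : Fin 8,
    rowsMat (matRows.getD j []) * rowsMat (matRows.getD j []) = 1 := by
  decide +kernel

/-- The matrix of the polar form. -/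
def gram : Matrix Crd Crd (ZMod 3) :=
  Matrix.of fun i j => match i, j with
    | .inl _, .inl _ => 2
    | .inr (.inl a), .inr (.inr b) => if a = b then 1 else 0
    | .inr (.inr a), .inr (.inl b) => if a = b then 1 else 0
    | _, _ => 0

set_option maxHeartbeats 2000000 in
theorem qf_gram (v : Vec) : qf v = 2 * (v ⬝ᵥ gram.mulVec v) := by
  have h4 : (4 : ZMod 3) = 1 := by decide
  simp [qf, Cfsg.quadFormOdd, gram, Matrix.mulVec, dotProduct, Fintype.sum_sum_type,
    Fin.sum_univ_three, pow_two]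
  linear_combination
    (-(v (.inl ()) * v (.inl ()) + v (.inr (.inl 0)) * v (.inr (.inr 0)) +
      v (.inr (.inl 1)) * v (.inr (.inr 1)) + v (.inr (.inl 2)) * v (.inr (.inr 2)))) * h4

theorem rowsMat_gram : ∀ j : Fin 8,
    (rowsMat (matRows.getD j []))ᵀ * gram * rowsMat (matRows.getD j []) = gram := by
  decide +kernel

theorem qf_mulVec {M : Matrix Crd Crd (ZMod 3)} (hM : Mᵀ * gram * M = gram) (v : Vec) :
    qf (M.mulVec v) = qf v := by
  have h : M.mulVec v ⬝ᵥ gram.mulVec (M.mulVec v) = v ⬝ᵥ (Mᵀ * gram * M).mulVec v := by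
    rw [← Matrix.mulVec_mulVec, ← Matrix.mulVec_mulVec, Matrix.dotProduct_transpose_mulVec]
    exact dotProduct_comm _ _
  rw [qf_gram, qf_gram, h, hM]

theorem rowsMat_qf (j : Fin 8) (v : Vec) : qf ((rowsMat (matRows.getD j [])).mulVec v) = qf v :=
  qf_mulVec (rowsMat_gram j) v

/-- The eight reflections. -/
noncomputable def refl8 (j : Fin 8) : Iso :=
  ⟨⟨rowsMat (matRows.getD j []), rowsMat (matRows.getD j []), rowsMat_sq j, rowsMat_sq j⟩,
    fun u _ => rowsMat_qf j u⟩

/-- The table of a letter. -/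
noncomputable def lineN (l k : ℕ) : ℕ := (lineT.getD l (.leaf 0)).get 16 k

/-- A matrix times a vector, on numbers. -/
def mulN (r : List (List ℕ)) (n : ℕ) : ℕ :=
  let d := fun i => ((r.getD i []).getD 0 0 * dig n 0 + (r.getD i []).getD 1 0 * dig n 1 +
    (r.getD i []).getD 2 0 * dig n 2 + (r.getD i []).getD 3 0 * dig n 3 +
    (r.getD i []).getD 4 0 * dig n 4 + (r.getD i []).getD 5 0 * dig n 5 +
    (r.getD i []).getD 6 0 * dig n 6) % 3
  d 0 + 3 * d 1 + 9 * d 2 + 27 * d 3 + 81 * d 4 + 243 * d 5 + 729 * d 6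

theorem mulVec_vecN (r : List (List ℕ)) (n : ℕ) : (rowsMat r).mulVec (vecN n) = vecN (mulN r n) := by
  have hd : ∀ i, i < 7 → dig (mulN r n) i = ((r.getD i []).getD 0 0 * dig n 0 +
      (r.getD i []).getD 1 0 * dig n 1 + (r.getD i []).getD 2 0 * dig n 2 +
      (r.getD i []).getD 3 0 * dig n 3 + (r.getD i []).getD 4 0 * dig n 4 +
      (r.getD i []).getD 5 0 * dig n 5 + (r.getD i []).getD 6 0 * dig n 6) % 3 := by
    intro i hi
    unfold mulN
    set d := fun i => ((r.getD i []).getD 0 0 * dig n 0 + (r.getD i []).getD 1 0 * dig n 1 +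
      (r.getD i []).getD 2 0 * dig n 2 + (r.getD i []).getD 3 0 * dig n 3 +
      (r.getD i []).getD 4 0 * dig n 4 + (r.getD i []).getD 5 0 * dig n 5 +
      (r.getD i []).getD 6 0 * dig n 6) % 3 with hdd
    have hb : ∀ i, d i < 3 := fun i => Nat.mod_lt _ (by norm_num)
    show dig (d 0 + 3 * d 1 + 9 * d 2 + 27 * d 3 + 81 * d 4 + 243 * d 5 + 729 * d 6) i = d i
    clear_value d
    have := hb 0; have := hb 1; have := hb 2; have := hb 3; have := hb 4; have := hb 5; have := hb 6
    rw [dig_eq]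
    interval_cases i <;> omega
  funext i
  have hp : pos i < 7 := by
    rcases i with ⟨⟩ | i | i <;> simp [pos] <;> omega
  rw [vecN_apply (mulN r n), hd _ hp, ZMod.natCast_mod]
  simp only [Matrix.mulVec, dotProduct, rowsMat, Matrix.of_apply, Fintype.sum_sum_type,
    Fin.sum_univ_three, Finset.univ_unique, Finset.sum_singleton, vecN_apply, res_cast]
  simp [pos]
  ring

theorem lineHom_refl (j : Fin 8) (k : Fin 351) : (lineHom (refl8 j) k : ℕ) = lineN (j + 1) k := by
  have h : ∀ j : Fin 8, ∀ k : Fin 351, mulN (matRows.getD j []) (ptT.get 16 k) < 2187 ∧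
      idxT.get 16 (mulN (matRows.getD j []) (ptT.get 16 k)) % 351 = lineN (j + 1) k := by
    decide +kernel
  show (idx ((rowsMat (matRows.getD j [])).mulVec (pt k)) : ℕ) = _
  rw [pt, mulVec_vecN]
  show idxT.get 16 (enc (vecN _)) % 351 = _
  rw [enc_vecN (h j k).1, (h j k).2]

theorem card_pOmega :
    Nat.card (Cfsg.POmega (ZMod 3) (Cfsg.quadFormOdd 3 (ZMod 3))) = 4585351680 := by
  have h := Cfsg.Agent.S0292.result (F := ZMod 3) (q := 3) (ZMod.card 3) (by decide) 3 le_rfl
  simp [Finset.prod_range_succ] at h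
  omega

theorem chain_valid : ChainValid 351 lineN [1, 2, 3, 4, 5, 6, 7, 8] [] levels := by
  have ok : ∀ L ∈ levels, ∀ r : ℕ, r < L.size → L.ok 351 lineN r = true := by decide +kernel
  simp only [levels, List.mem_cons, List.not_mem_nil, or_false, forall_eq_or_imp, forall_eq] at ok
  obtain ⟨h0, h1, h2, h3, h4, h5⟩ := ok
  refine ⟨by decide +kernel, h0, by decide +kernel, h1, by decide +kernel, h2, by decide +kernel,
    h3, by decide +kernel, h4, by decide +kernel, h5, trivial⟩

end Cfsg.Agent.SporB.FischerO
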